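import Cfsg.Agent.H691.T3.KOne
import Cfsg.Agent.H691.Ident
import Cfsg.Agent.H677.CodMain

/-!
# S4766, small degrees: the frame (helper559)

`frame` : a finite group `G` with perfect nontrivial derived subgroup has a normal subgroup `R ≤ G'` and an almost
simple quotient `A` with socle `G' / R`, provided every candidate almost simple group has a degree `b` of its socle such
that, for `k ≥ 2`, either `b ^ k` divides no degree of `G`, or no degree of `G` is a multiple of `b` at most
`k b |A : S|`.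
-/

set_option autoImplicit false

open scoped commutatorElement

namespace Cfsg.Agent.H559.AD

open Cfsg Cfsg.Agent.Characters Cfsg.Agent.Characters.Core Cfsg.Agent.H681.DegBasic Cfsg.Agent.H686.CharKit
open Cfsg.Agent.H691 Cfsg.Agent.H691.KOne Cfsg.Agent.H691.ExtChar Cfsg.Agent.H691.T3.KOne

universe u

section

variable {G : Type u} [Group G] [Finite G] (N : Subgroup G) [hN : N.Normal]

/-- **The product of the conjugates.** -/
theorem exists_pow_dvd (α : IrrCharacter N) (hs : IsSimpleGroup (N ⧸ chKer α))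
    (hna : ¬ IsMulCommutative (N ⧸ chKer α)) :
    ∃ d ∈ charDegrees G, charDegree (α : N → ℂ) ^ (TT N α).index ∣ d := by
  classical
  have := Fintype.ofFinite G
  have := Fintype.ofFinite N
  set b := charDegree (α : N → ℂ) with hbdef
  have hα1 : (α : N → ℂ) 1 = b := (charDegree_irr α).symm
  let ι := G ⧸ TT N α
  have : Fintype ι := Fintype.ofFinite _
  let a : ι → IrrCharacter N := fun i => cj N (Quotient.out i : G)⁻¹ α
  have hR : MN (chKer α) := MN.of_simple _ hs hna
  have hMN : ∀ i, MN (chKer (a i)) := by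
    intro i
    rw [ker_cj]
    exact hR.comap _
  have hneq : ∀ i j, i ≠ j → chKer (a i) ≠ chKer (a j) := by
    intro i j hij h
    apply hij
    rw [← Quotient.out_eq i, ← Quotient.out_eq j]
    change (QuotientGroup.mk (Quotient.out i : G) : ι) = QuotientGroup.mk (Quotient.out j : G)
    rw [QuotientGroup.eq]
    intro n
    have h1 : ∀ m : N, (MulAut.conjNormal (Quotient.out i : G)⁻¹ : MulAut N) m ∈ chKer α ↔
        (MulAut.conjNormal (Quotient.out j : G)⁻¹ : MulAut N) m ∈ chKer α := by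
      intro m
      rw [← mem_ker_cj, ← mem_ker_cj]
      change m ∈ chKer (a i) ↔ m ∈ chKer (a j)
      rw [h]
    have h2 := h1 ((MulAut.conjNormal (Quotient.out j : G) : MulAut N) n)
    rw [← MulAut.mul_apply, ← map_mul, ← MulAut.mul_apply, ← map_mul, inv_mul_cancel, map_one] at h2
    exact h2
  obtain ⟨hirr, -⟩ := irr_prod a hMN hneq Finset.univ
  have hdeg : charDegree (∏ i : ι, (a i : N → ℂ)) = b ^ (TT N α).index := by
    apply H672.charDegree_of_eq
    have h1 : ∀ i : ι, (a i : N → ℂ) 1 = b := by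
      intro i
      change (cj N _ α : N → ℂ) 1 = b
      rw [cj_apply, map_one, hα1]
    rw [Finset.prod_apply, Finset.prod_congr rfl fun i _ => h1 i, Finset.prod_const, Finset.card_univ,
      ← Nat.card_eq_fintype_card, ← Subgroup.index_eq_card]
    push_cast
    rfl
  obtain ⟨χ', hχ', ho'⟩ := H672.exists_over_subtype N hirr
  have h3 := (H672.charDegree_dvd_of_over N hχ' hirr ho').1
  rw [hdeg] at h3
  exact ⟨_, ⟨⟨χ', hχ'⟩, rfl⟩, h3⟩

/-- **A character above an extension.** -/
theorem exists_le (α : IrrCharacter N) {χT : TT N α → ℂ} (hχT : IsIrrCharacter (TT N α) χT)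
    (hov : H672.Over (Subgroup.inclusion (le_TT N α)) χT α) :
    ∃ x ∈ charDegrees G, charDegree (α : N → ℂ) ∣ x ∧ x ≤ (TT N α).index * charDegree χT := by
  classical
  have := Fintype.ofFinite G
  have := Fintype.ofFinite N
  obtain ⟨χ, hχ, hoχ⟩ := H672.exists_over_subtype (TT N α) hχT
  have hle : charDegree χ ≤ (TT N α).index * charDegree χT := by
    have := Fintype.ofFinite (TT N α)
    exact H621.SymDeg.degree_le_index_mul (TT N α) hχ hχT ((H672.over_subtype_iff _ χ χT).1 hoχ)
      (H672.coe_charDegree hχ).symm (H672.coe_charDegree hχT).symm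
  have hαχ : H672.Over N.subtype χ (α : N → ℂ) := by
    have h1 : H672.Over ((TT N α).subtype.comp (Subgroup.inclusion (le_TT N α))) χ (α : N → ℂ) :=
      (H672.over_comp_iff _ _ (isIrr_isCharacter hχ) α.2).2 ⟨χT, hχT, hoχ, hov⟩
    exact h1
  exact ⟨_, ⟨⟨χ, hχ⟩, rfl⟩, (H672.charDegree_dvd_of_over N hχ α.2 hαχ).1, hle⟩

/-- **The almost simple group attached to a simple quotient of `N`.** -/
theorem exists_char (hcomm : commutator G ≤ N) (R : Subgroup N) [hR : R.Normal]
    (hs : IsSimpleGroup (N ⧸ R)) (hna : ¬ IsMulCommutative (N ⧸ R)) :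
    ∃ (A : Type u) (_ : Group A) (_ : Finite A) (S : Subgroup A), AS A S ∧ ∀ b ∈ charDegrees S, b ≠ 1 →
      ∃ (α : IrrCharacter N) (χ : TR N R → ℂ), chKer α = R ∧ charDegree (α : N → ℂ) = b ∧
        IsIrrCharacter (TR N R) χ ∧ H672.Over (Subgroup.inclusion (le_TR N R)) χ (α : N → ℂ) ∧
        charDegree χ ≤ b * S.index := by
  classical
  set Y := TR N R with hY
  set N' : Subgroup Y := N.subgroupOf Y with hN'
  set R' : Subgroup Y := (R.map N.subtype).subgroupOf Y with hR'
  have i1 : N'.Normal := inferInstance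
  have hmem : ∀ (n : N), (n : G) ∈ R.map N.subtype ↔ n ∈ R := by
    intro n
    constructor
    · rintro ⟨m, hm, h⟩
      have : m = n := Subtype.ext h
      rwa [← this]
    · exact fun h => ⟨n, h, rfl⟩
  have i2 : R'.Normal := by
    refine ⟨fun r hr y => ?_⟩
    rw [hR', Subgroup.mem_subgroupOf] at hr ⊢
    obtain ⟨n, hn, hnr⟩ := hr
    have h1 := (y.2 n).2 hn
    refine ⟨_, h1, ?_⟩
    rw [Subgroup.coe_subtype, MulAut.conjNormal_apply]
    have hnr' : (n : G) = (r : G) := hnr
    rw [hnr']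
    rfl
  have hRN : R' ≤ N' := by
    intro y hy
    rw [hR', Subgroup.mem_subgroupOf] at hy
    rw [hN', Subgroup.mem_subgroupOf]
    obtain ⟨n, -, h⟩ := hy
    rw [← h]
    exact n.2
  let eN : N' ≃* N := Subgroup.subgroupOfEquivOfLe (le_TR N R)
  have heN : ∀ x : N', ((eN x : N) : G) = ((x : Y) : G) := fun x => rfl
  have hmap : (R'.subgroupOf N').map eN.toMonoidHom = R := by
    ext n
    constructor
    · rintro ⟨x, hx, rfl⟩
      have h1 : ((x : Y) : G) ∈ R.map N.subtype := hx
      rw [← heN] at h1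
      exact (hmem _).1 h1
    · intro hn
      refine ⟨eN.symm n, ?_, by simp⟩
      change (((eN.symm n : N') : Y) : G) ∈ R.map N.subtype
      rw [← heN, eN.apply_symm_apply]
      exact (hmem _).2 hn
  let eQ : (N' ⧸ R'.subgroupOf N') ≃* (N ⧸ R) := QuotientGroup.congr _ _ eN hmap
  have hs' : IsSimpleGroup (N' ⧸ R'.subgroupOf N') := eQ.isSimpleGroup
  have hna' : ¬ IsMulCommutative (N' ⧸ R'.subgroupOf N') := fun hc =>
    hna ⟨⟨fun a b => eQ.symm.injective (by rw [map_mul, map_mul]; exact hc.is_comm.comm _ _)⟩⟩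
  have hcomm' : commutator Y ≤ N' := by
    rw [commutator_def, Subgroup.commutator_le]
    intro a _ b _
    rw [hN', Subgroup.mem_subgroupOf]
    apply hcomm
    exact Subgroup.commutator_mem_commutator (Subgroup.mem_top (a : G)) (Subgroup.mem_top (b : G))
  let K := AExt.KK N' R'
  let π : Y →* Y ⧸ K := QuotientGroup.mk' K
  let S : Subgroup (Y ⧸ K) := N'.map π
  obtain ⟨hAS, e, he⟩ : AS (Y ⧸ K) S ∧ ∃ e : (N' ⧸ R'.subgroupOf N') ≃* S,
      ∀ n : N', ((e (QuotientGroup.mk n) : S) : Y ⧸ K) = π n := AExt.exists_AS hRN hs' hna' hcomm'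
  refine ⟨Y ⧸ K, inferInstance, inferInstance, S, hAS, fun b hb hb1 => ?_⟩
  have iS := hAS.normal
  obtain ⟨θ, hθb⟩ := hb
  obtain ⟨χ, hχ, ho⟩ := H672.exists_over_subtype S θ.2
  obtain ⟨h1, h2⟩ := H672.charDegree_dvd_of_over S hχ θ.2 ho
  have hc : charDegree χ ≤ b * S.index := by
    have h3 : charDegree χ / charDegree (θ : S → ℂ) ≤ S.index :=
      Nat.le_of_dvd (Nat.pos_of_ne_zero Subgroup.index_ne_zero_of_finite) h2
    rw [← hθb, ← Nat.mul_div_cancel' h1]
    exact Nat.mul_le_mul_left _ h3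
  -- the projection of `N` onto `S`
  let g : N →* S := (e.toMonoidHom.comp (QuotientGroup.mk' (R'.subgroupOf N'))).comp eN.symm.toMonoidHom
  have hg : Function.Surjective g :=
    (e.surjective.comp (QuotientGroup.mk'_surjective _)).comp eN.symm.surjective
  have hgval : ∀ n : N, ((g n : S) : Y ⧸ K) = π (Subgroup.inclusion (le_TR N R) n) := by
    intro n
    have h1 := he (eN.symm n)
    exact h1
  have hgker : ∀ n : N, g n = 1 ↔ n ∈ R := by
    intro n
    have h1 : g n = e (QuotientGroup.mk (eN.symm n)) := rfl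
    rw [h1, EmbeddingLike.map_eq_one_iff, QuotientGroup.eq_one_iff, Subgroup.mem_subgroupOf]
    exact hmem n
  have hirr : IsIrrCharacter N ((θ : S → ℂ) ∘ g) := isIrr_comp g hg θ.2
  have hnaS : ¬ ∀ a b : S, a * b = b * a := fun h => hAS.nonab ⟨⟨h⟩⟩
  have hsS := hAS.simple
  have hdeg : charDegree ((θ : S → ℂ) ∘ g) = b := by
    rw [← hθb]
    apply H672.charDegree_of_eq
    rw [Function.comp, map_one, H672.coe_charDegree θ.2]
  have hθ1 : (θ : S → ℂ) 1 ≠ 1 := by
    intro h
    have h1 : charDegree (θ : S → ℂ) = 1 := H672.charDegree_of_eq (by rw [h]; simp)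
    exact hb1 (hθb ▸ h1)
  refine ⟨⟨(θ : S → ℂ) ∘ g, hirr⟩, χ ∘ π, ?_, hdeg, isIrr_comp π (QuotientGroup.mk'_surjective _) hχ, ?_, ?_⟩
  · ext n
    rw [mem_chKer, ← hgker n]
    constructor
    · intro h
      have h1 : (θ : S → ℂ) (g n) = (θ : S → ℂ) (g 1) := h
      rw [map_one] at h1
      exact H681.SimpleChar.eq_one_of_norm_eq hnaS θ.2 hθ1 (by rw [h1])
    · intro h
      change (θ : S → ℂ) (g n) = (θ : S → ℂ) (g 1)
      rw [h, map_one]
  · have h1 : H672.Over (S.subtype.comp g) χ ((θ : S → ℂ) ∘ g) := by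
      refine (H672.over_comp_iff _ _ (isIrr_isCharacter hχ) hirr).2 ⟨θ, θ.2, ho, ?_⟩
      have := Fintype.ofFinite N
      rw [H672.over_iff, classInner_irr_self hirr]
      exact one_ne_zero
    have := Fintype.ofFinite N
    rw [H672.over_iff] at h1 ⊢
    have h2 : (χ ∘ π) ∘ (Subgroup.inclusion (le_TR N R)) = χ ∘ (S.subtype.comp g) := by
      funext n
      change χ (π (Subgroup.inclusion (le_TR N R) n)) = χ ((g n : S) : Y ⧸ K)
      rw [hgval]
    rw [h2]
    exact h1
  · have h1 : charDegree (χ ∘ π) = charDegree χ := by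
      apply H672.charDegree_of_eq
      rw [Function.comp, map_one, H672.coe_charDegree hχ]
    rw [h1]
    exact hc

/-- **The simple factor is normalised.** -/
theorem normal_of (hcomm : commutator G ≤ N) (R : Subgroup N) [hR : R.Normal]
    (hs : IsSimpleGroup (N ⧸ R)) (hna : ¬ IsMulCommutative (N ⧸ R))
    (hk : ∀ (A : Type u) [Group A] [Finite A] (S : Subgroup A), AS A S → ∃ b ∈ charDegrees S, b ≠ 1 ∧
      ∀ k, 2 ≤ k → ∀ d ∈ charDegrees G, b ^ k ∣ d → ∀ x ∈ charDegrees G, b ∣ x → x ≤ k * (b * S.index) → False) :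
    (R.map N.subtype).Normal := by
  obtain ⟨A, _, _, S, hAS, hA⟩ := exists_char N hcomm R hs hna
  obtain ⟨b, hb, hb1, hkb⟩ := hk A S hAS
  obtain ⟨α, χ, hαR, hαb, hχ, ho, hc⟩ := hA b hb hb1
  subst hαR
  obtain ⟨d, hd, hdb⟩ := exists_pow_dvd N α hs hna
  obtain ⟨x, hx, hbx, hxle⟩ := exists_le N α (χT := χ) hχ ho
  rw [hαb] at hdb hbx
  have h1 : TT N α = ⊤ := by
    by_contra hne
    have h7 : 2 ≤ (TT N α).index := by
      have h8 : (TT N α).index ≠ 0 := Subgroup.index_ne_zero_of_finite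
      have h9 : (TT N α).index ≠ 1 := fun h => hne (Subgroup.index_eq_one.1 h)
      omega
    exact hkb _ h7 d hd hdb x hx hbx (hxle.trans (Nat.mul_le_mul_left _ hc))
  refine ⟨fun x hx g => ?_⟩
  obtain ⟨n, hn, rfl⟩ := hx
  have hg : g ∈ TT N α := by rw [h1]; exact Subgroup.mem_top g
  refine ⟨_, (hg n).2 hn, ?_⟩
  rw [Subgroup.coe_subtype, MulAut.conjNormal_apply]

end

/-- **The frame.** -/
theorem frame {G : Type u} [Group G] [Finite G] (hP : ⁅commutator G, commutator G⁆ = commutator G)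
    (hnt : commutator G ≠ ⊥)
    (hk : ∀ (A : Type u) [Group A] [Finite A] (S : Subgroup A), AS A S → ∃ b ∈ charDegrees S, b ≠ 1 ∧
      ∀ k, 2 ≤ k → ∀ d ∈ charDegrees G, b ^ k ∣ d → ∀ x ∈ charDegrees G, b ∣ x → x ≤ k * (b * S.index) → False) :
    ∃ (R : Subgroup G) (_ : R.Normal), R ≤ commutator G ∧
      ∃ (A : Type u) (_ : Group A) (_ : Finite A) (S : Subgroup A),
      AS A S ∧ charDegrees A ⊆ charDegrees G ∧ Nonempty ((commutator G ⧸ R.subgroupOf (commutator G)) ≃* S) := by
  classical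
  obtain ⟨N, hN⟩ : ∃ N : Subgroup G, N = commutator G := ⟨_, rfl⟩
  have iN : N.Normal := by rw [hN]; infer_instance
  rw [← hN] at hP hnt ⊢
  have hNp : commutator N = ⊤ := by
    have h1 : (commutator N).map N.subtype = ⁅N, N⁆ := Subgroup.map_subtype_commutator N
    rw [hP] at h1
    rw [eq_top_iff]
    intro x _
    have h2 : (x : G) ∈ (commutator N).map N.subtype := by rw [h1]; exact x.2
    obtain ⟨y, hy, hyx⟩ := h2
    have : y = x := Subtype.ext hyx
    rwa [← this]
  have hNnt : Nontrivial N := (Subgroup.nontrivial_iff_ne_bot N).2 hnt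
  obtain ⟨R₀, hR₀, hs⟩ := H677.CodMain.exists_simple_quotient (G := N)
  have hna : ¬ IsMulCommutative (N ⧸ R₀) := by
    intro hc
    have h1 : commutator (N ⧸ R₀) = ⊤ := by
      rw [commutator_def, ← Subgroup.map_top_of_surjective _ (QuotientGroup.mk'_surjective R₀),
        ← Subgroup.map_commutator, ← commutator_def, hNp]
    have h2 : commutator (N ⧸ R₀) = ⊥ := by
      rw [commutator_def, Subgroup.commutator_eq_bot_iff_le_centralizer]
      intro x _
      rw [Subgroup.mem_centralizer_iff]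
      exact fun y _ => hc.is_comm.comm y x
    rw [h2] at h1
    exact bot_ne_top h1
  have hRn : (R₀.map N.subtype).Normal := normal_of N hN.ge R₀ hs hna hk
  set R : Subgroup G := R₀.map N.subtype with hR
  have hRN : R ≤ N := by
    rintro _ ⟨n, -, rfl⟩
    exact n.2
  have hRsub : R.subgroupOf N = R₀ := by
    ext n
    rw [Subgroup.mem_subgroupOf]
    constructor
    · rintro ⟨m, hm, h⟩
      have : m = n := Subtype.ext h
      rwa [← this]
    · exact fun h => ⟨n, h, rfl⟩
  have hs' : IsSimpleGroup (N ⧸ R.subgroupOf N) :=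
    (QuotientGroup.quotientMulEquivOfEq hRsub).isSimpleGroup
  have hna' : ¬ IsMulCommutative (N ⧸ R.subgroupOf N) := fun hc =>
    hna ⟨⟨fun a b => (QuotientGroup.quotientMulEquivOfEq hRsub).symm.injective
      (by rw [map_mul, map_mul]; exact hc.is_comm.comm _ _)⟩⟩
  obtain ⟨hAS, e₁, -⟩ := AExt.exists_AS hRN hs' hna' hN.ge
  refine ⟨R, hRn, hRN, G ⧸ AExt.KK N R, inferInstance, inferInstance, _, hAS, fun d hd => ?_, ⟨e₁⟩⟩
  exact charDegrees_comp (QuotientGroup.mk' (AExt.KK N R)) (QuotientGroup.mk'_surjective _) hd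

end Cfsg.Agent.H559.AD
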