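import Cfsg.Agent.H690.Spor.RankThree
import Cfsg.Agent.J2.HundredGens
import Cfsg.Agent.S1619
import Cfsg.Agent.S2066
import Cfsg.Agent.H691.Types
import Cfsg.Agent.H424.DegTools

/-!
# Almost simple groups with socle `J₂` (helper559)

`mem_63_J2` : a group `A` with a normal subgroup `S ≅ J₂`, `C(S) = 1`, `A / S` abelian, has an irreducible character of
degree 63: `A` is `J₂` or the automorphism group of the rank 3 graph on 100 points.
-/

set_option autoImplicit false
set_option maxRecDepth 100000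

namespace Cfsg.Agent.H559.AD

open Cfsg Equiv Cfsg.Agent.SporadicA.PermTab Cfsg.Agent.SporadicA.PermRank3 Cfsg.Agent.SporadicA.J2Data
open Cfsg.Agent.SporadicA.J2Hundred Cfsg.Agent.H690.Spor.RankThree Cfsg.Agent.H691

universe u

namespace JTwo

theorem chk_solve : ((List.range 100).all fun f => (f == 0) || (f == 99) || !(226800 % (f * (99 - f)) == 0) ||
    (let D := 226800 / (f * (99 - f)); !(Nat.sqrt D * Nat.sqrt D == D)) || (f == 36) || (f == 63)) = true := by
  decide +kernel

theorem solve {f g D : ℕ} (h1 : f + g = 99) (h2 : f * g * D = 226800) (h3 : IsSquare D) : f = 36 ∨ f = 63 := by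
  have h := List.all_eq_true.1 chk_solve f (List.mem_range.2 (by omega))
  have hg : 99 - f = g := by omega
  have hf0 : f ≠ 0 := by rintro rfl; simp at h2
  have hg0 : g ≠ 0 := by rintro rfl; simp at h2
  have hf9 : f ≠ 99 := by omega
  have h4 : 226800 % (f * g) = 0 := by
    rw [← h2]
    exact Nat.mul_mod_right _ _
  have h5 : 226800 / (f * g) = D := by
    rw [← h2]
    exact Nat.mul_div_cancel_left _ (Nat.mul_pos (Nat.pos_of_ne_zero hf0) (Nat.pos_of_ne_zero hg0))
  obtain ⟨m, hm⟩ := h3
  have h6 : Nat.sqrt D * Nat.sqrt D = D := by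
    rw [hm, Nat.sqrt_eq]
  simp only [hg, h4, h5, h6] at h
  simp [hf0, hf9] at h
  exact h

/-- rank three groups with subdegrees 36, 63 -/
theorem mem_63_of_r3 {Γ X : Type*} [Group Γ] [Finite Γ] [MulAction Γ X] {R : X → X → Prop} [Fintype X]
    (h : R3 Γ X R 36 63) : 63 ∈ charDegrees Γ := by
  classical
  obtain ⟨χ₁, χ₂, f, g, D, hf, hg, -, hfg, hprod, hsq⟩ := h.frame
  have hne : f ≠ g := by omega
  rcases solve hfg hprod (hsq hne) with rfl | rfl
  · have h4 : g = 63 := by omega
    subst h4
    exact ⟨χ₂, Cfsg.Agent.Blocks.Basic.charDegree_of_eq hg⟩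
  · exact ⟨χ₁, Cfsg.Agent.Blocks.Basic.charDegree_of_eq hf⟩

/-- the full automorphism group of the graph -/
abbrev P : Subgroup (Perm (Fin 100)) := autG 100 adj

theorem card_P : Nat.card P = 1209600 := by
  have h1 := two_mul_card_le aut_le sign_G pT_mem sign_T
  have h2 := card_aut_le
  have h3 := card_G
  have h4 : 1209600 ≤ Nat.card (autG 100 adj) := by omega
  exact le_antisymm h2 h4

theorem smul_def (g : P) (x : Fin 100) : g • x = (g : Perm (Fin 100)) x := rfl

/-- subgroups between `G` and `P` have rank 3 -/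
theorem r3_of {H : Subgroup (Perm (Fin 100))} (hGH : G ≤ H) (h11 : ¬ 11 ∣ Nat.card H) :
    ∃ R, R3 H (Fin 100) R 36 63 := by
  classical
  have ht : MulAction.IsPretransitive H (Fin 100) := by
    refine ⟨fun x y => ?_⟩
    obtain ⟨g, hg, h1⟩ := trans x
    obtain ⟨k, hk, h2⟩ := trans y
    refine ⟨⟨k * g⁻¹, H.mul_mem (hGH hk) (H.inv_mem (hGH hg))⟩, ?_⟩
    show (k * g⁻¹) x = y
    rw [Perm.mul_apply, ← h1, show g⁻¹ (g x0) = x0 from g.symm_apply_apply x0, h2]
  set O : Fin 100 → Set (Fin 100) := fun v => MulAction.orbit (MulAction.stabilizer H x0) v with hO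
  have hsub1 : {v : Fin 100 | lk c1 v ≠ 2047} ⊆ O x1 := by
    intro v hv
    obtain ⟨g, hg, h1⟩ := orb_pair psu0 (mem2 psu0 psu1) or1 x1 v (by decide +kernel) hv
    exact ⟨⟨⟨g, hGH hg.1⟩, hg.2⟩, h1⟩
  have hsub2 : {v : Fin 100 | lk c1b v ≠ 2047} ⊆ O x2 := by
    intro v hv
    obtain ⟨g, hg, h1⟩ := orb_pair psu0 (mem2 psu0 psu1) or1b x2 v (by decide +kernel) hv
    exact ⟨⟨⟨g, hGH hg.1⟩, hg.2⟩, h1⟩
  have hn1 : 36 ≤ (O x1).ncard := by
    rw [← ncard_of_cntOrb cn1]
    exact Set.ncard_le_ncard hsub1 (Set.toFinite _)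
  have hn2 : 63 ≤ (O x2).ncard := by
    rw [← ncard_of_cntOrb cn1b]
    exact Set.ncard_le_ncard hsub2 (Set.toFinite _)
  have hx0 : ∀ v, v ≠ x0 → x0 ∉ O v := by
    rintro v hv ⟨⟨g, hg⟩, h1⟩
    apply hv
    have h2 : g • v = g • x0 := h1.trans hg.symm
    exact MulAction.injective g h2
  have hx10 : x1 ≠ x0 := by decide
  have hx20 : x2 ≠ x0 := by decide
  have hle : ∀ s : Set (Fin 100), x0 ∉ s → s.ncard ≤ 99 := by
    intro s hs
    have h1 : (insert x0 s).ncard ≤ Nat.card (Fin 100) := by
      rw [← Set.ncard_univ]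
      exact Set.ncard_le_ncard (Set.subset_univ _) (Set.toFinite _)
    rw [Set.ncard_insert_of_notMem hs (Set.toFinite _), Nat.card_eq_fintype_card, Fintype.card_fin] at h1
    omega
  have hdisj : Disjoint (O x1) (O x2) := by
    rcases MulAction.orbit.eq_or_disjoint (G := MulAction.stabilizer H x0) x1 x2 with h | h
    · exfalso
      have h12 : O x1 = O x2 := h
      have h3 : {v : Fin 100 | lk c1 v ≠ 2047} ∪ {v : Fin 100 | lk c1b v ≠ 2047} ⊆ O x1 :=
        Set.union_subset hsub1 (by rw [h12]; exact hsub2)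
      have h4 : ({x0}ᶜ : Set (Fin 100)) ⊆ O x1 := by
        intro v hv
        apply h3
        have h := (allB_iff _ _).1 c_cover v v.2
        cases h1 : Nat.beq (v : ℕ) 0 with
        | true => exact absurd (Fin.ext (Nat.eq_of_beq_eq_true h1)) hv
        | false =>
          rw [h1, cond_false] at h
          cases h2 : Nat.beq (lk c1 v) 2047 with
          | true =>
            rw [h2, cond_true] at h
            exact Or.inr ((nbeq_iff _ _).1 h)
          | false => exact Or.inl (Nat.ne_of_beq_eq_false h2)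
      have h5 : 99 ≤ (O x1).ncard := by
        have h6 := Set.ncard_le_ncard h4 (Set.toFinite _)
        rw [Set.ncard_compl, Set.ncard_singleton, Nat.card_eq_fintype_card, Fintype.card_fin] at h6
        exact h6
      have h6 := hle _ (hx0 x1 hx10)
      have h7 : (O x1).ncard = 99 := le_antisymm h6 h5
      apply h11
      have h8 : Nat.card (O x1) * Nat.card (MulAction.stabilizer (MulAction.stabilizer H x0) x1) =
          Nat.card (MulAction.stabilizer H x0) := by
        rw [← Nat.card_prod]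
        exact (Nat.card_congr (MulAction.orbitProdStabilizerEquivGroup (MulAction.stabilizer H x0) x1))
      rw [Nat.card_coe_set_eq, h7] at h8
      have h9 : 11 ∣ Nat.card (MulAction.stabilizer H x0) := by
        rw [← h8]
        exact Dvd.dvd.mul_right (by norm_num) _
      exact h9.trans (Subgroup.card_subgroup_dvd_card _)
    · exact h
  have hu : (O x1 ∪ O x2).ncard ≤ 99 := hle _ (by
    rintro (h | h)
    · exact hx0 x1 hx10 h
    · exact hx0 x2 hx20 h)
  rw [Set.ncard_union_eq hdisj (Set.toFinite _) (Set.toFinite _)] at hu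
  exact ⟨_, R3.of_orbits ht hx10 hx20 (k := 36) (l := 63)
    (show (O x1).ncard = 36 by omega) (show (O x2).ncard = 63 by omega) (by norm_num)
    (by rw [Nat.card_eq_fintype_card, Fintype.card_fin])⟩

theorem mem_63_G : 63 ∈ charDegrees G := by
  obtain ⟨R, hR⟩ := r3_of le_rfl (by rw [card_G]; norm_num)
  exact mem_63_of_r3 hR

theorem mem_63_P : 63 ∈ charDegrees P := by
  obtain ⟨R, hR⟩ := r3_of aut_le (by rw [card_P]; norm_num)
  exact mem_63_of_r3 hR

/-- only the identity centralises `G` -/
theorem cent_G {c : Perm (Fin 100)} (hc : ∀ g ∈ G, g * c = c * g) : c = 1 := by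
  -- `c x0` is fixed by the stabiliser of `x0`
  have h0 : c x0 = x0 := by
    by_contra hne
    obtain ⟨R, hR⟩ := r3_of (H := G) le_rfl (by rw [card_G]; norm_num)
    have hfix : ∀ g ∈ ps G x0, g (c x0) = c x0 := by
      intro g hg
      have h1 := congrArg (fun f : Perm (Fin 100) => f x0) (hc g hg.1)
      simp only [Perm.mul_apply] at h1
      rw [h1, hg.2]
    have h := (allB_iff _ _).1 c_cover (c x0) (c x0).2
    have key : ∀ C : ℕ, (∀ w : Fin 100, lk C (c x0) ≠ 2047 → lk C w ≠ 2047 → ∃ g ∈ ps G x0, g (c x0) = w) →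
        lk C (c x0) ≠ 2047 → {v : Fin 100 | lk C v ≠ 2047}.ncard ≤ 1 := by
      intro C h1 h2
      rw [Set.ncard_le_one (Set.toFinite _)]
      intro a ha b hb
      obtain ⟨g, hg, rfl⟩ := h1 a h2 ha
      obtain ⟨k, hk, rfl⟩ := h1 b h2 hb
      rw [hfix g hg, hfix k hk]
    cases h1 : Nat.beq ((c x0 : Fin 100) : ℕ) 0 with
    | true => exact absurd (Fin.ext (Nat.eq_of_beq_eq_true h1)) hne
    | false =>
      rw [h1, cond_false] at h
      cases h2 : Nat.beq (lk c1 (c x0)) 2047 with
      | true =>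
        rw [h2, cond_true] at h
        have h3 := key c1b (fun w hv hw => orb_pair psu0 (mem2 psu0 psu1) or1b _ w hv hw) ((nbeq_iff _ _).1 h)
        rw [ncard_of_cntOrb cn1b] at h3
        omega
      | false =>
        have h3 := key c1 (fun w hv hw => orb_pair psu0 (mem2 psu0 psu1) or1 _ w hv hw) (Nat.ne_of_beq_eq_false h2)
        rw [ncard_of_cntOrb cn1] at h3
        omega
  ext v
  obtain ⟨g, hg, rfl⟩ := trans v
  have h1 := congrArg (fun f : Perm (Fin 100) => f x0) (hc g hg)
  simp only [Perm.mul_apply] at h1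
  rw [← h1, h0, Perm.one_apply]

/-- `G` as a subgroup of `P` -/
abbrev GP : Subgroup P := G.subgroupOf P

/-- `GP ≃ G` -/
noncomputable def eGP : GP ≃* G := Subgroup.subgroupOfEquivOfLe aut_le

theorem index_GP : GP.index = 2 := by
  have h1 := GP.card_mul_index
  rw [Nat.card_congr eGP.toEquiv, card_G, card_P] at h1
  omega

theorem as_P : AS P GP := by
  have hn : GP.Normal := Subgroup.normal_of_index_eq_two index_GP
  have hs := simple
  have hs' : IsSimpleGroup GP := eGP.isSimpleGroup
  refine ⟨hn, hs', ?_, ?_, ?_⟩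
  · intro hc
    have h1 : (Nat.card GP).Prime := by
      have := hc.is_comm
      let _ : CommGroup GP := { (inferInstance : Group GP) with mul_comm := fun a b => hc.is_comm.comm a b }
      exact IsSimpleGroup.prime_card
    rw [Nat.card_congr eGP.toEquiv, card_G] at h1
    revert h1
    norm_num
  · rw [eq_bot_iff]
    intro c hc
    rw [Subgroup.mem_centralizer_iff] at hc
    rw [Subgroup.mem_bot]
    apply Subtype.ext
    refine cent_G fun g hg => ?_
    exact congrArg Subtype.val (hc ⟨g, aut_le hg⟩ hg)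
  · have h1 : IsMulCommutative (P ⧸ GP) := by
      have h2 : Nat.card (P ⧸ GP) = 2 := index_GP
      have : Fact (Nat.Prime 2) := ⟨Nat.prime_two⟩
      have h3 : IsCyclic (P ⧸ GP) := isCyclic_of_prime_card h2
      let _ := h3.commGroup
      exact ⟨⟨fun a b => mul_comm a b⟩⟩
    rw [commutator_def, Subgroup.commutator_le]
    intro a _ b _
    rw [← QuotientGroup.eq_one_iff, commutatorElement_def]
    have h2 := h1.is_comm.comm (QuotientGroup.mk' GP a) (QuotientGroup.mk' GP b)
    show QuotientGroup.mk' GP (a * b * a⁻¹ * b⁻¹) = 1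
    rw [map_mul, map_mul, map_mul, h2]
    simp

end JTwo

/-- **The full automorphism group.** -/
theorem equiv_mulAut {A : Type u} [Group A] [Finite A] {S : Subgroup A} (h : AS A S)
    (hi : Nat.card (Out S) = S.index) : Nonempty (A ≃* MulAut S) := by
  have hn := h.normal
  have hs := h.simple
  have hker : (MulAut.conjNormal : A →* MulAut S).ker = ⊥ := by
    rw [eq_bot_iff, ← h.cent]
    intro a ha
    rw [Subgroup.mem_centralizer_iff]
    intro s hs
    have h1 := DFunLike.congr_fun (MonoidHom.mem_ker.1 ha) ⟨s, hs⟩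
    have h2 := congrArg Subtype.val h1
    rw [MulAut.conjNormal_apply, MulAut.one_apply] at h2
    exact (mul_inv_eq_iff_eq_mul.1 h2).symm
  have hinj : Function.Injective (MulAut.conjNormal : A →* MulAut S) := (MonoidHom.ker_eq_bot_iff _).1 hker
  have : Finite (MulAut S) := inferInstance
  have hcard : Nat.card A = Nat.card (MulAut S) := by
    rw [← H934.OutB.card_out_mul S h.nonab, hi, mul_comm]
    exact S.card_mul_index.symm
  exact ⟨MulEquiv.ofBijective _ ((Nat.bijective_iff_injective_and_card _).2 ⟨hinj, hcard⟩)⟩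

/-- **Almost simple groups with socle `J₂` have a character of degree 63.** -/
theorem mem_63_J2 {A : Type u} [Group A] [Finite A] {S : Subgroup A} (h : AS A S) (hS : Spor.IsoJ2 S) :
    63 ∈ charDegrees A := by
  obtain ⟨f⟩ := J2.HundredGens.J2_iso Cfsg.Agent.S1619.result.2.2.2
  have hout : Nat.card (Out S) = 2 := by
    obtain ⟨e⟩ := hS
    rw [H934.OutB.card_out_congr e]
    exact Cfsg.Agent.S2066.result
  obtain ⟨e⟩ := hS
  have hn := h.normal
  have h1 := h.index_dvd_out
  rw [hout] at h1
  rcases (Nat.dvd_prime Nat.prime_two).1 h1 with h2 | h2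
  · have h3 : S = ⊤ := Subgroup.index_eq_one.1 h2
    subst h3
    rw [H424.DegTools.charDegrees_congr (Subgroup.topEquiv.symm.trans (e.trans f))]
    exact JTwo.mem_63_G
  · obtain ⟨e₁⟩ := equiv_mulAut h (by rw [hout, h2])
    have e₂ : S ≃* JTwo.GP := (e.trans f).trans JTwo.eGP.symm
    obtain ⟨e₃⟩ := equiv_mulAut JTwo.as_P (by
      rw [JTwo.index_GP, ← H934.OutB.card_out_congr e₂, hout])
    have e₄ : A ≃* JTwo.P := (e₁.trans (MulAut.congr e₂)).trans e₃.symm
    rw [H424.DegTools.charDegrees_congr e₄]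
    exact JTwo.mem_63_P

end Cfsg.Agent.H559.AD
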