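import Cfsg.Agent.H691.Ident
import Cfsg.Agent.H313.AltDeg.Alt
import Cfsg.Agent.H664.R1.U3Deg
import Cfsg.Agent.H664.R1.U3Iso
import Cfsg.Agent.H175.Eight.L3
import Cfsg.Agent.S2602
import Cfsg.Agent.S2603
import Cfsg.Agent.S0822
import Cfsg.Agent.Characters.Counting
import Cfsg.Agent.H559.AD.JTwo

/-!
# Degrees of small almost simple groups (helper559, S4766)

For the almost simple groups `A` with socle `S` a `{2,3,5,7}`-group: a degree of `A` in an explicit finite set.
-/

set_option autoImplicit false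

namespace Cfsg.Agent.H559.AD

open Cfsg Matrix Cfsg.Agent.Characters.Core Cfsg.Agent.H691 Cfsg.Agent.H313.AD

universe u

/-! ### the degrees of `A_n`, `7 ≤ n ≤ 10` -/

/-- the degrees of `A_n` and `S_n` -/
def DL : ℕ → List ℕ
  | 7 => [1, 6, 10, 14, 15, 20, 21, 35]
  | 8 => [1, 7, 14, 20, 21, 28, 35, 42, 45, 56, 64, 70, 90]
  | 9 => [1, 8, 21, 27, 28, 35, 42, 48, 56, 70, 84, 105, 120, 162, 168, 189, 216]
  | 10 => [1, 9, 35, 36, 42, 75, 84, 90, 126, 160, 210, 224, 225, 252, 288, 300, 315, 350, 384, 448, 450, 525, 567,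
      768]
  | _ => []

theorem chk7 : H704.go (altChk (fun d => (DL 7).contains d) 7) 8 7 1 [] 1 = true := by decide +kernel
theorem chk8 : H704.go (altChk (fun d => (DL 8).contains d) 8) 9 8 1 [] 1 = true := by decide +kernel
theorem chk9 : H704.go (altChk (fun d => (DL 9).contains d) 9) 10 9 1 [] 1 = true := by decide +kernel
theorem chk10 : H704.go (altChk (fun d => (DL 10).contains d) 10) 11 10 1 [] 1 = true := by decide +kernel

theorem mem_DL {n : ℕ} (h7 : 7 ≤ n) (h10 : n ≤ 10) {d : ℕ} (h : AltDeg n d) : d ∈ DL n := by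
  have h' : n = 7 ∨ n = 8 ∨ n = 9 ∨ n = 10 := by omega
  rcases h' with rfl | rfl | rfl | rfl
  · exact List.contains_iff_mem.1 (of_altChk chk7 h)
  · exact List.contains_iff_mem.1 (of_altChk chk8 h)
  · exact List.contains_iff_mem.1 (of_altChk chk9 h)
  · exact List.contains_iff_mem.1 (of_altChk chk10 h)

/-! ### Steinberg characters -/

variable {A : Type u} [Group A] [Finite A] {S : Subgroup A}

/-- The Steinberg character extends. -/
theorem st_mem (h : AS A S) {p : ℕ} (hp : p.Prime) (hL : IsLieTypeChar p S) {m k : ℕ} (hc : Nat.card S = p ^ m * k)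
    (hk : ¬ p ∣ k) : p ^ m ∈ charDegrees A := by
  have := h.normal
  have := h.simple
  have := Fact.mk hp
  obtain ⟨χ, hχ, -, hχ1⟩ := StExt.exists_ext S (H996.AllSplit.hasSplit_of_lie hp hL)
  obtain ⟨Q⟩ := (inferInstance : Nonempty (Sylow p S))
  have hk0 : k ≠ 0 := by
    rintro rfl
    exact hk (dvd_zero p)
  have h1 : Nat.card Q = p ^ m := by
    rw [Q.card_eq_multiplicity, hc, Nat.factorization_mul (pow_ne_zero _ hp.ne_zero) hk0, Nat.Prime.factorization_pow hp,
      Finsupp.add_apply, Finsupp.single_eq_same, Nat.factorization_eq_zero_of_not_dvd hk, add_zero]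
  rw [H681.DegBasic.mem_charDegrees]
  exact ⟨χ, hχ, by rw [hχ1 Q, h1]⟩

/-- `PSL₂` -/
theorem st_psl2 (h : AS A S) {F : Type} [Field F] [Fintype F] (h5 : 5 ≤ Fintype.card F)
    (e : S ≃* ProjectiveSpecialLinearGroup (Fin 2) F) : Fintype.card F ∈ charDegrees A := by
  have := h.normal
  have := h.simple
  obtain ⟨p, hp, hL, h2⟩ := Lie.psl_two_sylow h5 e
  have := Fact.mk hp
  obtain ⟨χ, hχ, -, hχ1⟩ := StExt.exists_ext S (H996.AllSplit.hasSplit_of_lie hp hL)
  obtain ⟨Q⟩ := (inferInstance : Nonempty (Sylow p S))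
  rw [H681.DegBasic.mem_charDegrees]
  exact ⟨χ, hχ, by rw [hχ1 Q, h2 Q]⟩

/-- multiples -/
theorem mult (h : AS A S) {d t : ℕ} (hd : d ∈ charDegrees S) (hpos : 0 < d) (ht : Nat.card (Out S) ∣ t) :
    ∃ k, k ∣ t ∧ d * k ∈ charDegrees A := by
  have := h.normal
  obtain ⟨x, hx, ⟨k, rfl⟩, h2⟩ := Ident.exists_mult hd
  rw [Nat.mul_div_cancel_left _ hpos] at h2
  exact ⟨k, h2.trans (h.index_dvd_out.trans ht), hx⟩

theorem dvd_of (h : AS A S) {d : ℕ} (hd : d ∈ charDegrees S) : ∃ x ∈ charDegrees A, d ∣ x := by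
  have := h.normal
  obtain ⟨x, hx, h1, -⟩ := Ident.exists_mult hd
  exact ⟨x, hx, h1⟩

theorem card_of_surj {X : Type*} [Group X] {Y : Type*} [Group Y] (φ : X →* Y) (hφ : Function.Surjective φ) :
    Nat.card X = Nat.card Y * Nat.card φ.ker := by
  rw [Subgroup.card_eq_card_quotient_mul_card_subgroup φ.ker,
    Nat.card_congr (QuotientGroup.quotientKerEquivOfSurjective φ hφ).toEquiv]

theorem out_psl2 {S : Type u} [Group S] {F : Type} [Field F] [Fintype F] {p f : ℕ} [Fact p.Prime] (hf : 1 ≤ f)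
    (hF : Fintype.card F = p ^ f) (h4 : 4 ≤ p ^ f) (e : S ≃* ProjectiveSpecialLinearGroup (Fin 2) F) :
    Nat.card (Out S) = f * Nat.gcd 2 (p ^ f - 1) := by
  obtain ⟨φ, hφ, -, h⟩ := Cfsg.Agent.S2602.result hf hF h4
  rw [H934.OutB.card_out_congr e, card_of_surj φ hφ, h]
  congr 1
  rw [Nat.card_congr (Multiplicative.toAdd), Nat.card_zmod]

theorem out_psu {S : Type u} [Group S] {K : Type} [Field K] [Fintype K] {p f q n : ℕ} [Fact p.Prime] (hf : 1 ≤ f)
    (hq : q = p ^ f) (hK : Fintype.card K = q ^ 2) (hn : 3 ≤ n) (h32 : ¬ (n = 3 ∧ q = 2)) (e : S ≃* PSU n K q) :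
    Nat.card (Out S) = 2 * f * Nat.gcd n (q + 1) := by
  obtain ⟨φ, hφ, -, h⟩ := Cfsg.Agent.S2603.result hf hq hK hn h32
  rw [H934.OutB.card_out_congr e, card_of_surj φ hφ, h]
  congr 1
  rw [Nat.card_congr (Multiplicative.toAdd), Nat.card_zmod]

theorem charP_of {F : Type} [Field F] [Fintype F] {p k : ℕ} (hp : p.Prime) (h : Fintype.card F = p ^ k) : CharP F p :=
  H175.Eight.charP_of_card hp h

/-! ### the rows -/

theorem row_A5 (h : AS A S) (e : S ≃* alternatingGroup (Fin 5)) :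
    5 ∈ charDegrees A ∧ 5 ∈ charDegrees S ∧ Nat.card (Out S) ∣ 2 := by
  have h5 : Fact (Nat.Prime 5) := ⟨by norm_num⟩
  obtain ⟨e'⟩ := S0253.result (F := ZMod 5) (by rw [ZMod.card])
  have e₁ := e.trans e'.symm
  refine ⟨?_, ?_, ?_⟩
  · have h1 := st_psl2 h (F := ZMod 5) (by rw [ZMod.card]) e₁
    rwa [ZMod.card] at h1
  · rw [H424.DegTools.charDegrees_congr e₁]
    exact (H464.PslDeg.psl_four_five (by rw [ZMod.card])).2
  · rw [out_psl2 (p := 5) (f := 1) le_rfl (by rw [ZMod.card]; rfl) (by norm_num) e₁]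
    decide

theorem row_A6 (h : AS A S) (e : S ≃* alternatingGroup (Fin 6)) :
    9 ∈ charDegrees A ∧ 10 ∈ charDegrees S ∧ Nat.card (Out S) ∣ 4 := by
  have : Fact (Nat.Prime 3) := ⟨by norm_num⟩
  have : Fintype (GaloisField 3 2) := Fintype.ofFinite _
  have hF : Fintype.card (GaloisField 3 2) = 9 := by
    rw [← Nat.card_eq_fintype_card, GaloisField.card 3 2 (by norm_num)]
    norm_num
  obtain ⟨e'⟩ := S0254.result hF
  have e₁ := e.trans e'.symm
  refine ⟨?_, ?_, ?_⟩
  · have h1 := st_psl2 h (F := GaloisField 3 2) (by rw [hF]; norm_num) e₁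
    rwa [hF] at h1
  · rw [H424.DegTools.charDegrees_congr e₁]
    have h1 := (H464.PslDeg.psl_degrees (F := GaloisField 3 2) (by rw [hF]; norm_num)).1
    rwa [hF] at h1
  · rw [out_psl2 (p := 3) (f := 2) (by norm_num) (by rw [hF]; rfl) (by norm_num) e₁]
    decide

theorem row_L27 (h : AS A S) {F : Type} [Field F] [Fintype F] (hF : Fintype.card F = 7)
    (e : S ≃* ProjectiveSpecialLinearGroup (Fin 2) F) :
    7 ∈ charDegrees A ∧ ∃ k, k ∣ 2 ∧ 6 * k ∈ charDegrees A := by
  have : Fact (Nat.Prime 7) := ⟨by norm_num⟩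
  refine ⟨?_, mult h ?_ (by norm_num) ?_⟩
  · have h1 := st_psl2 h (by rw [hF]; norm_num) e
    rwa [hF] at h1
  · rw [H424.DegTools.charDegrees_congr e]
    have h1 := (H464.PslDeg.psl_degrees (F := F) (by rw [hF])).2
    rwa [hF] at h1
  · rw [out_psl2 (p := 7) (f := 1) (by norm_num) (by rw [hF]; rfl) (by norm_num) e]
    decide

theorem row_U33 (h : AS A S) {F : Type} [Field F] [Fintype F] (hF : Fintype.card F = 9) (e : S ≃* PSU 3 F 3) :
    27 ∈ charDegrees A ∧ ∃ k, k ∣ 2 ∧ 7 * k ∈ charDegrees A := by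
  have : Fact (Nat.Prime 3) := ⟨by norm_num⟩
  have hF2 : Fintype.card F = 3 ^ 2 := by rw [hF]; norm_num
  have := charP_of Nat.prime_three hF2
  refine ⟨?_, mult h ?_ (by norm_num) ?_⟩
  · have hc : Nat.card S = 3 ^ 3 * 224 := by
      have h1 := S0280.result hF2 3 (by norm_num)
      rw [Nat.card_congr e.toEquiv]
      simp only [Finset.prod_range_succ, Finset.prod_range_zero] at h1
      norm_num [Nat.even_iff] at h1
      omega
    exact st_mem h Nat.prime_three (Or.inr (Or.inr (Or.inl ⟨F, inferInstance, inferInstance, inferInstance, 3, 3, hF2,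
      le_rfl, by norm_num, ⟨e⟩⟩))) hc (by norm_num)
  · obtain ⟨σ, hσ, hs, ⟨e'⟩⟩ := H664.R1.U3.exists_iso hF2
    rw [H424.DegTools.charDegrees_congr (e.trans e')]
    exact (H664.R1.U3.exists_red (σ := σ) hF2 le_rfl hs).1
  · rw [out_psu (p := 3) (f := 1) (n := 3) (q := 3) (by norm_num) (by norm_num) hF2 le_rfl (by norm_num) e]
    decide

theorem row_U42 (h : AS A S) {F : Type} [Field F] [Fintype F] (hF : Fintype.card F = 4) (e : S ≃* PSU 4 F 2) :
    64 ∈ charDegrees A ∧ 81 ∈ charDegrees A ∧ 64 ∈ charDegrees S := by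
  have hF2 : Fintype.card F = 2 ^ 2 := by rw [hF]; norm_num
  have h2 := charP_of Nat.prime_two hF2
  have hc : Nat.card S = 25920 := by
    have h1 := S0280.result hF2 4 (by norm_num)
    rw [Nat.card_congr e.toEquiv]
    simp only [Finset.prod_range_succ, Finset.prod_range_zero] at h1
    norm_num [Nat.even_iff] at h1
    omega
  have hK : Fintype.card (ZMod 3) = 3 := ZMod.card 3
  have h3 : Fact (Nat.Prime 3) := ⟨Nat.prime_three⟩
  obtain ⟨e'⟩ := Cfsg.Agent.S0822.result (F := F) (K := ZMod 3) hF hK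
  have hL : IsLieTypeChar 2 S := Or.inr (Or.inr (Or.inl ⟨F, inferInstance, inferInstance, inferInstance, 4, 2, hF2,
      by norm_num, by norm_num, ⟨e⟩⟩))
  refine ⟨?_, ?_, ?_⟩
  · exact st_mem h Nat.prime_two (m := 6) (k := 405) hL (by rw [hc]; norm_num) (by norm_num)
  · exact st_mem h Nat.prime_three (m := 4) (k := 320) (Or.inr (Or.inl ⟨ZMod 3, inferInstance, inferInstance,
      inferInstance, 2, le_rfl, fun _ => hK.ge, ⟨e.trans e'⟩⟩)) (by rw [hc]; norm_num) (by norm_num)
  · have := h.simple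
    have hn := h.normal
    have h2' := Fact.mk Nat.prime_two
    obtain ⟨χ, hχ, hχS, hχ1⟩ := StExt.exists_ext S (H996.AllSplit.hasSplit_of_lie Nat.prime_two hL)
    obtain ⟨Q⟩ := (inferInstance : Nonempty (Sylow 2 S))
    have h1 : Nat.card Q = 64 := by
      rw [Q.card_eq_multiplicity, hc, show 25920 = 2 ^ 6 * 405 by norm_num, Nat.factorization_mul (by norm_num)
        (by norm_num), Nat.Prime.factorization_pow Nat.prime_two,
        Finsupp.add_apply, Finsupp.single_eq_same, Nat.factorization_eq_zero_of_not_dvd (by norm_num), add_zero]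
      norm_num
    rw [H681.DegBasic.mem_charDegrees]
    exact ⟨_, hχS, by show χ 1 = _; rw [hχ1 Q, h1]⟩

theorem row_alt (h : AS A S) {m : ℕ} (hm : 7 ≤ m) (e : S ≃* alternatingGroup (Fin m)) : m - 1 ∈ charDegrees A := by
  have := h.normal
  obtain ⟨χ, hχ, -, h1⟩ := H464.AltExt.alt_ext S hm e
  rw [H681.DegBasic.mem_charDegrees]
  exact ⟨χ, hχ, h1⟩

theorem row_L34 (h : AS A S) {F : Type} [Field F] [Fintype F] (hF : Fintype.card F = 4)
    (e : S ≃* ProjectiveSpecialLinearGroup (Fin 3) F) : 64 ∈ charDegrees A ∧ ∃ x ∈ charDegrees A, 63 ∣ x := by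
  have hF2 : Fintype.card F = 2 ^ 2 := by rw [hF]; norm_num
  have h2 := charP_of Nat.prime_two hF2
  have hc : Nat.card S = 20160 := by
    rw [Nat.card_congr e.toEquiv]
    exact H175.Eight.card_four hF
  refine ⟨?_, dvd_of h ?_⟩
  · exact st_mem h Nat.prime_two (m := 6) (k := 315) (Or.inl ⟨F, inferInstance, inferInstance, inferInstance, 3,
      by norm_num, by norm_num, ⟨e⟩⟩) (by rw [hc]; norm_num) (by norm_num)
  · rw [H424.DegTools.charDegrees_congr e, H175.Eight.mem_l34 hF]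
    decide

theorem card_psp {F : Type} [Field F] [Fintype F] {q m : ℕ} (hF : Fintype.card F = q) (hm : 1 ≤ m) :
    Nat.card (PSp m F) * Nat.gcd 2 (q - 1) = q ^ (m ^ 2) * ∏ i ∈ Finset.range m, (q ^ (2 * (i + 1)) - 1) := by
  have h1 := S0245.result (F := F) hF m
  have h2 := S0246.result (F := F) hF m hm
  have h3 := Subgroup.card_eq_card_quotient_mul_card_subgroup
    (Subgroup.center (Matrix.symplecticGroup (Fin m) F))
  rw [h1, h2] at h3
  exact h3.symm

theorem row_S47 (h : AS A S) {F : Type} [Field F] [Fintype F] (hF : Fintype.card F = 7) (e : S ≃* PSp 2 F) :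
    7 ^ 4 ∈ charDegrees A := by
  have h7 : Nat.Prime 7 := by norm_num
  have := charP_of (k := 1) h7 (by rw [hF]; norm_num)
  have hc : Nat.card S = 7 ^ 4 * 57600 := by
    rw [Nat.card_congr e.toEquiv]
    have h1 := card_psp hF (m := 2) (by norm_num)
    simp only [Finset.prod_range_succ, Finset.prod_range_zero] at h1
    norm_num at h1 ⊢
    omega
  exact st_mem h h7 (Or.inr (Or.inl ⟨F, inferInstance, inferInstance, inferInstance, 2, le_rfl,
    fun _ => by rw [hF]; norm_num, ⟨e⟩⟩)) hc (by norm_num)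

theorem row_S62 (h : AS A S) {F : Type} [Field F] [Fintype F] (hF : Fintype.card F = 2) (e : S ≃* PSp 3 F) :
    2 ^ 9 ∈ charDegrees A := by
  have := charP_of (k := 1) Nat.prime_two (by rw [hF]; norm_num)
  have hc : Nat.card S = 2 ^ 9 * 2835 := by
    rw [Nat.card_congr e.toEquiv]
    have h1 := card_psp hF (m := 3) (by norm_num)
    simp only [Finset.prod_range_succ, Finset.prod_range_zero] at h1
    norm_num at h1 ⊢
    omega
  exact st_mem h Nat.prime_two (Or.inr (Or.inl ⟨F, inferInstance, inferInstance, inferInstance, 3, by norm_num,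
    fun _ => by omega, ⟨e⟩⟩)) hc (by norm_num)

theorem row_O82 (h : AS A S) {F : Type} [Field F] [Fintype F] (hF : Fintype.card F = 2)
    (e : S ≃* POmega F (quadFormPlus 4 F)) : 2 ^ 12 ∈ charDegrees A := by
  have := charP_of (k := 1) Nat.prime_two (by rw [hF]; norm_num)
  have hc : Nat.card S = 2 ^ 12 * 42525 := by
    rw [Nat.card_congr e.toEquiv]
    have h1 := S0293.result (F := F) hF 4 le_rfl
    simp only [Finset.prod_range_succ, Finset.prod_range_zero] at h1
    norm_num at h1 ⊢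
    omega
  exact st_mem h Nat.prime_two (Or.inr (Or.inr (Or.inr (Or.inr (Or.inl ⟨F, inferInstance, inferInstance, inferInstance,
    4, le_rfl, ⟨e⟩⟩))))) hc (by norm_num)

theorem row_U35 (h : AS A S) {F : Type} [Field F] [Fintype F] (hF : Fintype.card F = 25) (e : S ≃* PSU 3 F 5) :
    5 ^ 3 ∈ charDegrees A := by
  have h5 : Nat.Prime 5 := by norm_num
  have hF2 : Fintype.card F = 5 ^ 2 := by rw [hF]; norm_num
  have := charP_of h5 hF2
  have hc : Nat.card S = 5 ^ 3 * 1008 := by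
    have h1 := S0280.result hF2 3 (by norm_num)
    rw [Nat.card_congr e.toEquiv]
    simp only [Finset.prod_range_succ, Finset.prod_range_zero] at h1
    norm_num [Nat.even_iff] at h1
    omega
  exact st_mem h h5 (Or.inr (Or.inr (Or.inl ⟨F, inferInstance, inferInstance, inferInstance, 3, 5, hF2,
    le_rfl, by norm_num, ⟨e⟩⟩))) hc (by norm_num)

theorem row_U43 (h : AS A S) {F : Type} [Field F] [Fintype F] (hF : Fintype.card F = 9) (e : S ≃* PSU 4 F 3) :
    3 ^ 6 ∈ charDegrees A := by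
  have hF2 : Fintype.card F = 3 ^ 2 := by rw [hF]; norm_num
  have := charP_of Nat.prime_three hF2
  have hc : Nat.card S = 3 ^ 6 * 4480 := by
    have h1 := S0280.result hF2 4 (by norm_num)
    rw [Nat.card_congr e.toEquiv]
    simp only [Finset.prod_range_succ, Finset.prod_range_zero] at h1
    norm_num [Nat.even_iff] at h1
    omega
  exact st_mem h Nat.prime_three (Or.inr (Or.inr (Or.inl ⟨F, inferInstance, inferInstance, inferInstance, 4, 3, hF2,
    by norm_num, by norm_num, ⟨e⟩⟩))) hc (by norm_num)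

end Cfsg.Agent.H559.AD
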