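import Cfsg.Agent.H559.AD.Top
import Cfsg.Agent.S4760
import Cfsg.Agent.S3719
import Cfsg.Agent.S3720

/-!
# S4766: the top quotient, `7 ≤ n ≤ 10`, without hypotheses (helper559)
-/

set_option autoImplicit false

namespace Cfsg.Agent.H559.AD

open Cfsg Cfsg.Agent.H313.AD

universe u

theorem itoM : ItoM.{u} := by
  intro T _ _ hs hna p hp hpT
  have := Fact.mk hp
  by_contra hcon
  push Not at hcon
  obtain ⟨P⟩ := (inferInstance : Nonempty (Sylow p T))
  obtain ⟨hn, hc⟩ := (Cfsg.Agent.S4760.result p P).2 fun χ => hcon _ ⟨χ, rfl⟩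
  rcases hn.eq_bot_or_eq_top with h | h
  · exact (Sylow.ne_bot_of_dvd_card P hpT) h
  · refine hna ⟨⟨fun a b => ?_⟩⟩
    have ha : a ∈ (P : Subgroup T) := by rw [h]; exact Subgroup.mem_top a
    have hb : b ∈ (P : Subgroup T) := by rw [h]; exact Subgroup.mem_top b
    exact congrArg Subtype.val (hc.is_comm.comm ⟨a, ha⟩ ⟨b, hb⟩)

/-- **The top quotient for `7 ≤ n ≤ 10`.** -/
theorem top {G : Type u} [Group G] [Finite G] {n : ℕ} (h7 : 7 ≤ n) (h10 : n ≤ 10)
    (hD : ∀ d ∈ charDegrees G, AltDeg n d) (hP : ⁅commutator G, commutator G⁆ = commutator G)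
    (hnt : commutator G ≠ ⊥) : ∃ (R : Subgroup G) (_ : R.Normal), R ≤ commutator G ∧
      Nonempty ((commutator G ⧸ R.subgroupOf (commutator G)) ≃* alternatingGroup (Fin n)) :=
  top_small itoM (fun _ _ _ _ hna h => Cfsg.Agent.S3719.result hna h)
    (fun _ _ _ _ hna h => Cfsg.Agent.S3720.result hna h) h7 h10 hD hP hnt

end Cfsg.Agent.H559.AD
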