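import Cfsg.Agent.H559.AD.Deg
import Cfsg.Agent.H559.AD.Frame
import Cfsg.Agent.SolvableStructure.HallConverse

/-!
# S4766: the top quotient, `7 ≤ n ≤ 10` (helper559)

`top_small` : if the degrees of the finite group `G` are degrees of `A_n`, `7 ≤ n ≤ 10`, and `1 ≠ G' = G''`, then some
quotient of `G'` by a normal subgroup of `G` is `A_n`. The inputs are S4760 (`ItoM`), S3719 (`KThree`) and S3720
(`KFour`).
-/

set_option autoImplicit false

namespace Cfsg.Agent.H559.AD

open Cfsg Matrix Cfsg.Agent.Characters.Core Cfsg.Agent.H691 Cfsg.Agent.H313.AD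

universe u

/-- The Itô–Michler theorem for simple groups. -/
def ItoM : Prop := ∀ (T : Type u) [Group T] [Finite T] [IsSimpleGroup T], ¬ IsMulCommutative T →
  ∀ p : ℕ, p.Prime → p ∣ Nat.card T → ∃ d ∈ charDegrees T, p ∣ d

/-- S3719 -/
def KThree : Prop := ∀ (G : Type u) [Group G] [Finite G] [IsSimpleGroup G], ¬ IsMulCommutative G →
  (Nat.card G).primeFactors.card = 3 →
    Nonempty (G ≃* ↥(alternatingGroup (Fin 5))) ∨ Nonempty (G ≃* ↥(alternatingGroup (Fin 6))) ∨
    (∃ (F : Type) (_ : Field F) (_ : Fintype F), (Fintype.card F = 7 ∨ Fintype.card F = 8 ∨ Fintype.card F = 17) ∧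
      Nonempty (G ≃* Matrix.ProjectiveSpecialLinearGroup (Fin 2) F)) ∨
    (∃ (F : Type) (_ : Field F) (_ : Fintype F), Fintype.card F = 3 ∧
      Nonempty (G ≃* Matrix.ProjectiveSpecialLinearGroup (Fin 3) F)) ∨
    (∃ (F : Type) (_ : Field F) (_ : Fintype F), Fintype.card F = 9 ∧ Nonempty (G ≃* Cfsg.PSU 3 F 3)) ∨
    (∃ (F : Type) (_ : Field F) (_ : Fintype F), Fintype.card F = 4 ∧ Nonempty (G ≃* Cfsg.PSU 4 F 2))

/-- S3720 -/
def KFour : Prop := ∀ (G : Type u) [Group G] [Finite G] [IsSimpleGroup G], ¬ IsMulCommutative G →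
  (Nat.card G).primeFactors = {2, 3, 5, 7} →
    Nonempty (G ≃* ↥(alternatingGroup (Fin 7))) ∨ Nonempty (G ≃* ↥(alternatingGroup (Fin 8))) ∨
    Nonempty (G ≃* ↥(alternatingGroup (Fin 9))) ∨ Nonempty (G ≃* ↥(alternatingGroup (Fin 10))) ∨
    Cfsg.Spor.IsoJ2 G ∨
    (∃ (F : Type) (_ : Field F) (_ : Fintype F), Fintype.card F = 49 ∧
      Nonempty (G ≃* Matrix.ProjectiveSpecialLinearGroup (Fin 2) F)) ∨
    (∃ (F : Type) (_ : Field F) (_ : Fintype F), Fintype.card F = 4 ∧
      Nonempty (G ≃* Matrix.ProjectiveSpecialLinearGroup (Fin 3) F)) ∨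
    (∃ (F : Type) (_ : Field F) (_ : Fintype F), Fintype.card F = 7 ∧ Nonempty (G ≃* Cfsg.PSp 2 F)) ∨
    (∃ (F : Type) (_ : Field F) (_ : Fintype F), Fintype.card F = 2 ∧ Nonempty (G ≃* Cfsg.PSp 3 F)) ∨
    (∃ (F : Type) (_ : Field F) (_ : Fintype F), Fintype.card F = 2 ∧
      Nonempty (G ≃* Cfsg.POmega F (Cfsg.quadFormPlus 4 F))) ∨
    (∃ (F : Type) (_ : Field F) (_ : Fintype F), Fintype.card F = 25 ∧ Nonempty (G ≃* Cfsg.PSU 3 F 5)) ∨
    (∃ (F : Type) (_ : Field F) (_ : Fintype F), Fintype.card F = 9 ∧ Nonempty (G ≃* Cfsg.PSU 4 F 3))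

variable {A : Type u} [Group A] [Finite A] {S : Subgroup A}

theorem card_psl2_eight {F : Type} [Field F] [Fintype F] (hF : Fintype.card F = 8) :
    Nat.card (ProjectiveSpecialLinearGroup (Fin 2) F) = 504 := by
  have h1 := Cfsg.Agent.S0243.result (F := F) hF 2 le_rfl
  rw [Fin.prod_univ_two] at h1
  norm_num at h1
  omega

theorem card_psl2_seven {F : Type} [Field F] [Fintype F] (hF : Fintype.card F = 7) :
    Nat.card (ProjectiveSpecialLinearGroup (Fin 2) F) = 168 := by
  have h1 := Cfsg.Agent.S0243.result (F := F) hF 2 le_rfl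
  rw [Fin.prod_univ_two] at h1
  norm_num at h1
  omega

theorem card_psl2_seventeen {F : Type} [Field F] [Fintype F] (hF : Fintype.card F = 17) :
    Nat.card (ProjectiveSpecialLinearGroup (Fin 2) F) = 2448 := by
  have h1 := Cfsg.Agent.S0243.result (F := F) hF 2 le_rfl
  rw [Fin.prod_univ_two] at h1
  norm_num at h1
  omega

theorem squares (a b c d : ℕ) (h : 3 + a * 64 + b * 441 + c * 729 + d * 784 = 1512) : False := by
  have hb : b ≤ 3 := by omega
  have hc : c ≤ 2 := by omega
  have hd : d ≤ 1 := by omega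
  interval_cases b <;> interval_cases c <;> interval_cases d <;> omega

/-- `L₂(8)` and its extension are excluded by the sum of the squares. -/
theorem no_L28 (h : AS A S) {F : Type} [Field F] [Fintype F] (hF : Fintype.card F = 8)
    (e : S ≃* ProjectiveSpecialLinearGroup (Fin 2) F) (hD : ∀ x ∈ charDegrees A, x ∈ DL 9) : False := by
  classical
  have hn := h.normal
  have : Fact (Nat.Prime 2) := ⟨Nat.prime_two⟩
  have hout : Nat.card (Out S) = 3 := by
    rw [out_psl2 (p := 2) (f := 3) (by norm_num) (by rw [hF]; rfl) (by norm_num) e]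
    decide
  have h3 : S.index ∣ 3 := hout ▸ h.index_dvd_out
  have h7 : 7 ∈ charDegrees S := by
    rw [H424.DegTools.charDegrees_congr e]
    have h1 := (H464.PslDeg.psl_degrees (F := F) (by rw [hF]; norm_num)).2
    rwa [hF] at h1
  rcases (Nat.dvd_prime Nat.prime_three).1 h3 with hi | hi
  · obtain ⟨x, hx, ⟨k, rfl⟩, h2⟩ := Ident.exists_mult (A := A) h7
    rw [Nat.mul_div_cancel_left _ (by norm_num), hi, Nat.dvd_one] at h2
    have h4 := hD _ hx
    rw [h2] at h4
    exact absurd h4 (by decide)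
  · have hS : Nat.card S = 504 := by
      rw [Nat.card_congr e.toEquiv]
      exact card_psl2_eight hF
    have hA : Nat.card A = 1512 := by
      rw [← S.card_mul_index, hS, hi]
    have := Fintype.ofFinite A
    have := finite_irr (G := A)
    have := Fintype.ofFinite (IrrCharacter A)
    set d : IrrCharacter A → ℕ := fun χ => charDegree (χ : A → ℂ) with hd
    have hsum : ∑ χ : IrrCharacter A, d χ * d χ = 1512 := by
      have h1 := Cfsg.Agent.Characters.Counting.sum_irr_one_mul (1 : A)
      rw [if_pos rfl] at h1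
      have h2 : ((∑ χ : IrrCharacter A, d χ * d χ : ℕ) : ℂ) = ((1512 : ℕ) : ℂ) := by
        rw [← hA, ← h1, Nat.cast_sum]
        refine Finset.sum_congr rfl fun χ _ => ?_
        rw [Cfsg.Agent.Blocks.Basic.irr_one_eq_charDegree χ.2, Nat.cast_mul]
      exact_mod_cast h2
    have hdv : ∀ χ, d χ = 1 ∨ d χ = 8 ∨ d χ = 21 ∨ d χ = 27 ∨ d χ = 28 := by
      intro χ
      have h1 : d χ ∈ DL 9 := hD _ ⟨χ, rfl⟩
      have h2 : d χ ∣ 1512 := by
        rw [← hA]
        exact H424.DegTools.dvd_card ⟨χ, rfl⟩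
      have h4 : d χ * d χ ≤ 1512 := by
        rw [← hsum]
        exact Finset.single_le_sum (f := fun χ => d χ * d χ) (fun _ _ => Nat.zero_le _) (Finset.mem_univ χ)
      have key : ∀ x ∈ DL 9, x ∣ 1512 → x * x ≤ 1512 → x = 1 ∨ x = 8 ∨ x = 21 ∨ x = 27 ∨ x = 28 := by decide
      exact key _ h1 h2 h4
    have hlin : (Finset.univ.filter fun χ => d χ = 1).card = 3 := by
      have h1 := Cfsg.Agent.Characters.Linear.card_hom_eq_index_commutator A
      rw [h.commutator_eq, hi, Nat.card_congr (Cfsg.Agent.Characters.Linear.linearEquiv A)] at h1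
      rw [← h1, ← Fintype.card_subtype, ← Nat.card_eq_fintype_card]
      refine Nat.card_congr (Equiv.subtypeEquivRight fun χ => ?_)
      rw [Cfsg.Agent.Blocks.Basic.irr_one_eq_charDegree χ.2]
      norm_cast
    have hsplit : ∀ χ, d χ * d χ = (if d χ = 1 then 1 else 0) + (if d χ = 8 then 1 else 0) * 64 +
        (if d χ = 21 then 1 else 0) * 441 + (if d χ = 27 then 1 else 0) * 729 + (if d χ = 28 then 1 else 0) * 784 := by
      intro χ
      rcases hdv χ with h1 | h1 | h1 | h1 | h1 <;> rw [h1] <;> rfl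
    rw [Finset.sum_congr rfl fun χ _ => hsplit χ, Finset.sum_add_distrib, Finset.sum_add_distrib,
      Finset.sum_add_distrib, Finset.sum_add_distrib, ← Finset.sum_mul, ← Finset.sum_mul, ← Finset.sum_mul,
      ← Finset.sum_mul, Finset.sum_boole, Finset.sum_boole, Finset.sum_boole, Finset.sum_boole, Finset.sum_boole] at hsum
    simp only [Nat.cast_id] at hsum
    rw [hlin] at hsum
    exact squares _ _ _ _ hsum

omit [Finite A] in
theorem kill {n : ℕ} (hD : ∀ x ∈ charDegrees A, x ∈ DL n) {x : ℕ} (hx : x ∈ charDegrees A) (h : (DL n).contains x = false) :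
    False := by
  have h1 := List.contains_iff_mem.2 (hD x hx)
  rw [h] at h1
  exact absurd h1 (by decide)

/-- **The candidates.** -/
theorem cand (k3 : KThree.{u}) (k4 : KFour.{u}) {n : ℕ} (h7 : 7 ≤ n) (h10 : n ≤ 10) (h : AS A S)
    (hp : ∀ p : ℕ, p.Prime → p ∣ Nat.card S → p ≤ 10) (hD : ∀ x ∈ charDegrees A, x ∈ DL n) :
    Nonempty (S ≃* alternatingGroup (Fin n)) := by
  have hs := h.simple
  have hna : ¬ ∀ a b : S, a * b = b * a := fun hc => h.nonab ⟨⟨hc⟩⟩
  have hn : n = 7 ∨ n = 8 ∨ n = 9 ∨ n = 10 := by omega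
  have hsub : (Nat.card S).primeFactors ⊆ {2, 3, 5, 7} := by
    intro p hp'
    have h1 := Nat.prime_of_mem_primeFactors hp'
    have h2 := hp p h1 (Nat.dvd_of_mem_primeFactors hp')
    have key : ∀ p ≤ 10, p.Prime → p ∈ ({2, 3, 5, 7} : Finset ℕ) := by decide
    exact key p h2 h1
  have h3 : 3 ≤ (Nat.card S).primeFactors.card := by
    by_contra hlt
    exact hna (IsSimpleGroup.comm_iff_isSolvable.2
      (SolvableStructure.HallConverse.isSolvable_of_no_three_primes (G := S) (by omega)))
  have h4 : (Nat.card S).primeFactors.card ≤ 4 := (Finset.card_le_card hsub).trans (by decide)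
  have hnd : ∀ p : ℕ, p.Prime → 10 < p → ¬ p ∣ Nat.card S := fun p h1 h2 h3 => by
    have := hp p h1 h3
    omega
  rcases Nat.lt_or_ge (Nat.card S).primeFactors.card 4 with hlt | hge
  · rcases k3 S h.nonab (by omega) with ⟨⟨e⟩⟩ | ⟨⟨e⟩⟩ | ⟨F, _, _, hF, ⟨e⟩⟩ | ⟨F, _, _, hF, ⟨e⟩⟩ | ⟨F, _, _, hF, ⟨e⟩⟩ |
      ⟨F, _, _, hF, ⟨e⟩⟩
    · exfalso
      have h5 := (row_A5 h e).1
      rcases hn with rfl | rfl | rfl | rfl
      all_goals exact kill hD h5 (by decide)
    · exfalso
      obtain ⟨h5, h6, h8⟩ := row_A6 h e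
      rcases hn with rfl | rfl | rfl | rfl
      · exact kill hD h5 (by decide)
      · exact kill hD h5 (by decide)
      · exact kill hD h5 (by decide)
      · obtain ⟨k, hk, h9⟩ := mult h h6 (by norm_num) h8
        have hk' : k = 1 ∨ k = 2 ∨ k = 4 := by
          have := Nat.le_of_dvd (by norm_num) hk
          interval_cases k <;> revert hk <;> decide
        rcases hk' with rfl | rfl | rfl
        all_goals exact kill hD h9 (by decide)
    · exfalso
      rcases hF with hF | hF | hF
      · obtain ⟨h5, k, hk, h6⟩ := row_L27 h hF e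
        rcases hn with rfl | rfl | rfl | rfl
        · exact kill hD h5 (by decide)
        · rcases (Nat.dvd_prime Nat.prime_two).1 hk with rfl | rfl
          all_goals exact kill hD h6 (by decide)
        · exact kill hD h5 (by decide)
        · exact kill hD h5 (by decide)
      · have h5 := st_psl2 h (by rw [hF]; norm_num) e
        rw [hF] at h5
        rcases hn with rfl | rfl | rfl | rfl
        · exact kill hD h5 (by decide)
        · exact kill hD h5 (by decide)
        · exact no_L28 h hF e hD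
        · exact kill hD h5 (by decide)
      · have h5 := st_psl2 h (by rw [hF]; norm_num) e
        rw [hF] at h5
        rcases hn with rfl | rfl | rfl | rfl
        all_goals exact kill hD h5 (by decide)
    · exfalso
      refine hnd 13 (by norm_num) (by norm_num) ?_
      rw [Nat.card_congr e.toEquiv]
      have h1 := Cfsg.Agent.S0243.result (F := F) hF 3 (by norm_num)
      simp [Fin.prod_univ_three] at h1
      omega
    · exfalso
      obtain ⟨h5, k, hk, h6⟩ := row_U33 h hF e
      rcases hn with rfl | rfl | rfl | rfl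
      · exact kill hD h5 (by decide)
      · exact kill hD h5 (by decide)
      · rcases (Nat.dvd_prime Nat.prime_two).1 hk with rfl | rfl
        all_goals exact kill hD h6 (by decide)
      · exact kill hD h5 (by decide)
    · exfalso
      obtain ⟨h5, h6, -⟩ := row_U42 h hF e
      rcases hn with rfl | rfl | rfl | rfl
      · exact kill hD h5 (by decide)
      · exact kill hD h6 (by decide)
      · exact kill hD h5 (by decide)
      · exact kill hD h5 (by decide)
  · have heq : (Nat.card S).primeFactors = {2, 3, 5, 7} :=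
      Finset.eq_of_subset_of_card_le hsub (by
        have : ({2, 3, 5, 7} : Finset ℕ).card = 4 := by decide
        omega)
    rcases k4 S h.nonab heq with ⟨⟨e⟩⟩ | ⟨⟨e⟩⟩ | ⟨⟨e⟩⟩ | ⟨⟨e⟩⟩ | hJ | ⟨F, _, _, hF, ⟨e⟩⟩ | ⟨F, _, _, hF, ⟨e⟩⟩ |
      ⟨F, _, _, hF, ⟨e⟩⟩ | ⟨F, _, _, hF, ⟨e⟩⟩ | ⟨F, _, _, hF, ⟨e⟩⟩ | ⟨F, _, _, hF, ⟨e⟩⟩ | ⟨F, _, _, hF, ⟨e⟩⟩
    · have h5 := row_alt h le_rfl e
      rcases hn with rfl | rfl | rfl | rfl
      · exact ⟨e⟩
      · exact (kill hD h5 (by decide)).elim
      · exact (kill hD h5 (by decide)).elim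
      · exact (kill hD h5 (by decide)).elim
    · have h5 := row_alt h (by norm_num) e
      rcases hn with rfl | rfl | rfl | rfl
      · exact (kill hD h5 (by decide)).elim
      · exact ⟨e⟩
      · exact (kill hD h5 (by decide)).elim
      · exact (kill hD h5 (by decide)).elim
    · have h5 := row_alt h (by norm_num) e
      rcases hn with rfl | rfl | rfl | rfl
      · exact (kill hD h5 (by decide)).elim
      · exact (kill hD h5 (by decide)).elim
      · exact ⟨e⟩
      · exact (kill hD h5 (by decide)).elim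
    · have h5 := row_alt h (by norm_num) e
      rcases hn with rfl | rfl | rfl | rfl
      · exact (kill hD h5 (by decide)).elim
      · exact (kill hD h5 (by decide)).elim
      · exact (kill hD h5 (by decide)).elim
      · exact ⟨e⟩
    · exfalso
      have h5 := mem_63_J2 h hJ
      rcases hn with rfl | rfl | rfl | rfl
      all_goals exact kill hD h5 (by decide)
    · exfalso
      have h5 := st_psl2 h (by rw [hF]; norm_num) e
      rw [hF] at h5
      rcases hn with rfl | rfl | rfl | rfl
      all_goals exact kill hD h5 (by decide)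
    · exfalso
      obtain ⟨h5, x, hx, h6⟩ := row_L34 h hF e
      rcases hn with rfl | rfl | rfl | rfl
      · exact kill hD h5 (by decide)
      · have key : ∀ x ∈ DL 8, ¬ 63 ∣ x := by decide
        exact key x (hD x hx) h6
      · exact kill hD h5 (by decide)
      · exact kill hD h5 (by decide)
    · exfalso
      have h5 := row_S47 h hF e
      rcases hn with rfl | rfl | rfl | rfl
      all_goals exact kill hD h5 (by decide)
    · exfalso
      have h5 := row_S62 h hF e
      rcases hn with rfl | rfl | rfl | rfl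
      all_goals exact kill hD h5 (by decide)
    · exfalso
      have h5 := row_O82 h hF e
      rcases hn with rfl | rfl | rfl | rfl
      all_goals exact kill hD h5 (by decide)
    · exfalso
      have h5 := row_U35 h hF e
      rcases hn with rfl | rfl | rfl | rfl
      all_goals exact kill hD h5 (by decide)
    · exfalso
      have h5 := row_U43 h hF e
      rcases hn with rfl | rfl | rfl | rfl
      all_goals exact kill hD h5 (by decide)

theorem sq_not_dvd_factorial {p n : ℕ} (hp : p.Prime) (hpn : n < 2 * p) : ¬ p ^ 2 ∣ n.factorial := by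
  intro h
  rcases Nat.lt_or_ge n p with h1 | h1
  · exact absurd ((hp.dvd_factorial).1 ((dvd_pow_self p two_ne_zero).trans h)) (by omega)
  · have h2 := (hp.pow_dvd_factorial_iff (n := n) (r := 2) (b := 2) (by
      have : n < p ^ 2 := lt_of_lt_of_le hpn (by rw [pow_two]; exact Nat.mul_le_mul_right _ hp.two_le)
      exact (Nat.log_lt_iff_lt_pow hp.one_lt (by have := hp.pos; omega)).2 this)).1 h
    simp at h2
    have h3 : n / p < 2 := Nat.div_lt_of_lt_mul (by omega)
    omega

/-- **The top quotient for `7 ≤ n ≤ 10`.** -/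
theorem top_small (im : ItoM.{u}) (k3 : KThree.{u}) (k4 : KFour.{u}) {G : Type u} [Group G] [Finite G] {n : ℕ}
    (h7 : 7 ≤ n) (h10 : n ≤ 10) (hD : ∀ d ∈ charDegrees G, AltDeg n d)
    (hP : ⁅commutator G, commutator G⁆ = commutator G) (hnt : commutator G ≠ ⊥) :
    ∃ (R : Subgroup G) (_ : R.Normal), R ≤ commutator G ∧
      Nonempty ((commutator G ⧸ R.subgroupOf (commutator G)) ≃* alternatingGroup (Fin n)) := by
  have hL : ∀ d ∈ charDegrees G, d ∈ DL n := fun d hd => mem_DL h7 h10 (hD d hd)
  obtain ⟨R, hR, hRG, A, _, _, S, hAS, hcd, ⟨e⟩⟩ := frame hP hnt (by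
    intro A _ _ S hAS
    have hs := hAS.simple
    have hna : ¬ ∀ a b : S, a * b = b * a := fun hc => hAS.nonab ⟨⟨hc⟩⟩
    have h3 : 3 ≤ (Nat.card S).primeFactors.card := by
      by_contra hlt
      exact hna (IsSimpleGroup.comm_iff_isSolvable.2
        (SolvableStructure.HallConverse.isSolvable_of_no_three_primes (G := S) (by omega)))
    -- a large prime
    have large : ∀ p : ℕ, p.Prime → p ∣ Nat.card S → n < 2 * p → ∃ b ∈ charDegrees S, b ≠ 1 ∧
        ∀ k, 2 ≤ k → ∀ d ∈ charDegrees G, b ^ k ∣ d → ∀ x ∈ charDegrees G, b ∣ x → x ≤ k * (b * S.index) →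
          False := by
      intro p hp hpS hpn
      obtain ⟨b, hb, hpb⟩ := im S hAS.nonab p hp hpS
      refine ⟨b, hb, ?_, fun k hk d hd hbd _ _ _ _ => ?_⟩
      · rintro rfl
        exact hp.one_lt.ne' (Nat.dvd_one.1 hpb)
      · refine sq_not_dvd_factorial hp hpn ?_
        exact ((pow_dvd_pow_of_dvd hpb 2).trans (pow_dvd_pow b hk)).trans (hbd.trans (hD d hd).dvd)
    by_cases hbig : ∃ p : ℕ, p.Prime ∧ p ∣ Nat.card S ∧ n < 2 * p
    · obtain ⟨p, hp, hpS, hpn⟩ := hbig
      exact large p hp hpS hpn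
    · push Not at hbig
      have hsub : (Nat.card S).primeFactors ⊆ {2, 3, 5} := by
        intro p hp'
        have h1 := Nat.prime_of_mem_primeFactors hp'
        have h2 := hbig p h1 (Nat.dvd_of_mem_primeFactors hp')
        have key : ∀ p ≤ 5, p.Prime → p ∈ ({2, 3, 5} : Finset ℕ) := by decide
        exact key p (by omega) h1
      have heq : (Nat.card S).primeFactors = {2, 3, 5} :=
        Finset.eq_of_subset_of_card_le hsub (by
          have : ({2, 3, 5} : Finset ℕ).card = 3 := by decide
          omega)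
      have h5S : 5 ∣ Nat.card S := Nat.dvd_of_mem_primeFactors (by rw [heq]; decide)
      have hn10 : n = 10 := by
        have := hbig 5 (by norm_num) h5S
        omega
      subst hn10
      have hnd : ∀ p : ℕ, p.Prime → 5 < p → ¬ p ∣ Nat.card S := fun p h1 h2 h3 => by
        have := hbig p h1 h3
        omega
      rcases k3 S hAS.nonab (by rw [heq]; decide) with ⟨⟨e⟩⟩ | ⟨⟨e⟩⟩ | ⟨F, _, _, hF, ⟨e⟩⟩ | ⟨F, _, _, hF, ⟨e⟩⟩ |
        ⟨F, _, _, hF, ⟨e⟩⟩ | ⟨F, _, _, hF, ⟨e⟩⟩
      · obtain ⟨-, h5, ho⟩ := row_A5 hAS e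
        refine ⟨5, h5, by norm_num, fun k hk d hd hkd x hx h5x hxk => ?_⟩
        have hi : S.index ≤ 2 := Nat.le_of_dvd (by norm_num) (hAS.index_dvd_out.trans ho)
        have hk2 : k ≤ 2 := by
          by_contra hk3
          have h6 : 5 ^ 3 ∣ d := (pow_dvd_pow 5 (by omega)).trans hkd
          have key : ∀ d ∈ DL 10, ¬ 5 ^ 3 ∣ d := by decide
          exact key d (hL d hd) h6
        have hx20 : x ≤ 20 := by nlinarith
        have key : ∀ x ∈ DL 10, 5 ∣ x → ¬ x ≤ 20 := by decide
        exact key x (hL x hx) h5x hx20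
      · obtain ⟨-, h5, ho⟩ := row_A6 hAS e
        refine ⟨10, h5, by norm_num, fun k hk d hd hkd x hx h5x hxk => ?_⟩
        have hi : S.index ≤ 4 := Nat.le_of_dvd (by norm_num) (hAS.index_dvd_out.trans ho)
        have hk2 : k ≤ 2 := by
          by_contra hk3
          have h6 : 10 ^ 3 ∣ d := (pow_dvd_pow 10 (by omega)).trans hkd
          have key : ∀ d ∈ DL 10, ¬ 10 ^ 3 ∣ d := by decide
          exact key d (hL d hd) h6
        have hx20 : x ≤ 80 := by nlinarith
        have key : ∀ x ∈ DL 10, 10 ∣ x → ¬ x ≤ 80 := by decide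
        exact key x (hL x hx) h5x hx20
      · exfalso
        rcases hF with hF | hF | hF
        · refine hnd 7 (by norm_num) (by norm_num) ?_
          rw [Nat.card_congr e.toEquiv, card_psl2_seven hF]
          norm_num
        · refine hnd 7 (by norm_num) (by norm_num) ?_
          rw [Nat.card_congr e.toEquiv, card_psl2_eight hF]
          norm_num
        · refine hnd 17 (by norm_num) (by norm_num) ?_
          rw [Nat.card_congr e.toEquiv, card_psl2_seventeen hF]
          norm_num
      · exfalso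
        refine hnd 13 (by norm_num) (by norm_num) ?_
        rw [Nat.card_congr e.toEquiv]
        have h1 := Cfsg.Agent.S0243.result (F := F) hF 3 (by norm_num)
        simp [Fin.prod_univ_three] at h1
        omega
      · exfalso
        refine hnd 7 (by norm_num) (by norm_num) ?_
        have h1 := S0280.result (show Fintype.card F = 3 ^ 2 by rw [hF]; norm_num) 3 (by norm_num)
        rw [Nat.card_congr e.toEquiv]
        simp only [Finset.prod_range_succ, Finset.prod_range_zero] at h1
        norm_num [Nat.even_iff] at h1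
        omega
      · obtain ⟨-, -, h5⟩ := row_U42 hAS hF e
        refine ⟨64, h5, by norm_num, fun k hk d hd hkd x hx h5x hxk => ?_⟩
        have h6 : 64 ^ 2 ∣ d := (pow_dvd_pow 64 hk).trans hkd
        have key : ∀ d ∈ DL 10, ¬ 64 ^ 2 ∣ d := by decide
        exact key d (hL d hd) h6)
  refine ⟨R, hR, hRG, ?_⟩
  have hs := hAS.simple
  have hn := hAS.normal
  obtain ⟨f⟩ := cand k3 k4 h7 h10 hAS (by
    intro p hp hpS
    obtain ⟨b, hb, hpb⟩ := im S hAS.nonab p hp hpS
    obtain ⟨x, hx, h1⟩ := dvd_of hAS hb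
    have h2 := (hp.dvd_factorial).1 ((hpb.trans h1).trans (hD x (hcd hx)).dvd)
    omega) (fun x hx => hL x (hcd hx))
  exact ⟨e.trans f⟩

end Cfsg.Agent.H559.AD
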